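import Mathlib
import Cfsg.Prelude.Def_OddOrderLocal
import Cfsg.Agent.OddChar.DadeApps
import Cfsg.Agent.OddCoh.Main
import Cfsg.Agent.Sigma.TypeSets
import Cfsg.Agent.BGFifteen.FittingEq
import Cfsg.Agent.S0040
import Cfsg.Agent.CoprimeAction.Frattini

/-!
Coherence of the characters induced from the kernel of a Frobenius maximal subgroup of Type I.
-/

set_option autoImplicit false
set_option linter.style.haveILetI false

namespace CfsgLib.TypeICoh

open CfsgLib.CharBasics CfsgLib.Exceptional CfsgLib.FeitCoh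

universe u v

/-- A non-abelian `p`-group has abelianization of order at least `p ^ 2`. -/
theorem sq_le_abelianization {K : Type u} [Group K] [Finite K] {p : ℕ} [Fact p.Prime] (hK : IsPGroup p K)
    (hna : ¬ IsMulCommutative K) : p ^ 2 ≤ Nat.card (Abelianization K) := by
  have hp : p.Prime := Fact.out
  obtain ⟨n, hn⟩ := (hK.to_quotient (commutator K)).exists_card_eq
  change Nat.card (Abelianization K) = p ^ n at hn
  rw [hn]
  refine Nat.pow_le_pow_right hp.pos (not_lt.1 fun hlt => hna ?_)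
  haveI : IsCyclic (Abelianization K) :=
    isCyclic_of_card_dvd_prime (p := p) (by rw [hn]; exact (pow_dvd_pow p (by omega : n ≤ 1)).trans (by rw [pow_one]))
  obtain ⟨g, hg⟩ := IsCyclic.exists_generator (α := Abelianization K)
  obtain ⟨g, rfl⟩ := QuotientGroup.mk_surjective g
  have htop : Subgroup.zpowers g ⊔ frattini K = ⊤ := by
    refine eq_top_iff.2 fun x _ => ?_
    obtain ⟨i, hi⟩ := Subgroup.mem_zpowers_iff.1 (hg (Abelianization.of x))
    have h : (g ^ i)⁻¹ * x ∈ commutator K := QuotientGroup.eq.1 hi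
    rw [show x = g ^ i * ((g ^ i)⁻¹ * x) by group]
    exact Subgroup.mul_mem_sup (zpow_mem (Subgroup.mem_zpowers g) i)
      (CfsgLib.CoprimeAction.commutator_le_frattini' hK h)
  have hz := frattini_nongenerating htop
  refine ⟨⟨fun a b => ?_⟩⟩
  obtain ⟨i, rfl⟩ := Subgroup.mem_zpowers_iff.1 (hz ▸ Subgroup.mem_top a : a ∈ Subgroup.zpowers g)
  obtain ⟨j, rfl⟩ := Subgroup.mem_zpowers_iff.1 (hz ▸ Subgroup.mem_top b : b ∈ Subgroup.zpowers g)
  exact zpow_mul_comm g i j

/-- A complement of odd order of a Frobenius kernel has order equal to its exponent. -/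
theorem index_eq_exponent {X : Type u} [Group X] [Finite X] (K U : Subgroup X) [K.Normal]
    (hX : Odd (Nat.card X)) (hK : K ≠ ⊥) (hc : Subgroup.IsComplement' K U)
    (hC : ∀ n ∈ K, n ≠ 1 → Subgroup.centralizer ({n} : Set X) ≤ K) : Monoid.exponent (X ⧸ K) = K.index := by
  have hfpf : ∀ h ∈ U, h ≠ 1 → K ⊓ Subgroup.centralizer {h} = ⊥ := fun h hh hh1 => by
    refine (Subgroup.eq_bot_iff_forall _).2 fun k hk => by_contra fun hk1 => hh1 ?_
    obtain ⟨hkK, hkc⟩ := Subgroup.mem_inf.1 hk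
    have hhK : h ∈ K := hC k hkK hk1
      (Subgroup.mem_centralizer_singleton_iff.2 (Subgroup.mem_centralizer_singleton_iff.1 hkc).symm)
    exact Subgroup.mem_bot.1 (hc.disjoint.le_bot ⟨hhK, hh⟩)
  haveI : IsZGroup ↥U := ⟨fun p hp P => by
    haveI := Fact.mk hp
    rcases Cfsg.Agent.S0040.result K U hc hK hfpf p P with h | ⟨n, ⟨e⟩⟩
    · exact h
    · exfalso
      have hodd : Odd (Nat.card P) := (hX.of_dvd_nat (Subgroup.card_subgroup_dvd_card U)).of_dvd_nat
        (Subgroup.card_subgroup_dvd_card (P : Subgroup U))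
      rw [Nat.card_congr e.toEquiv, Nat.card_eq_fintype_card, QuaternionGroup.card] at hodd
      exact Nat.not_even_iff_odd.2 hodd ⟨2 * 2 ^ n, by ring⟩⟩
  have e : X ⧸ K ≃* ↥U := Subgroup.IsComplement'.QuotientMulEquiv (K := K) hc.symm
  rw [Monoid.exponent_eq_of_mulEquiv e, IsZGroup.exponent_eq_card, Subgroup.index,
    Nat.card_congr e.toEquiv]

section Frobenius

variable {X : Type u} [Group X] [Fintype X] (K : Subgroup X) [K.Normal]
  (hC : ∀ n ∈ K, n ≠ 1 → Subgroup.centralizer ({n} : Set X) ≤ K)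

include hC in
/-- The characters induced from the kernel are the irreducible characters not trivial on it. -/
theorem inducedIrrAbove_eq :
    Cfsg.inducedIrrAbove K (⊥ : Subgroup X) = {χ : X → ℂ | Cfsg.IsIrrCharacter X χ ∧ ∃ h ∈ K, χ h ≠ χ 1} := by
  classical
  haveI := Fintype.ofFinite K
  haveI : Fintype (Cfsg.IrrCharacter K) := Fintype.ofFinite _
  ext χ
  constructor
  · rintro ⟨θ, hθ, hne, -, rfl⟩
    exact induced_irr K hC hθ hne
  · rintro ⟨hχ, hr⟩
    have hcard := card_fibre K hC χ hχ hr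
    obtain ⟨θ, hθ⟩ := Finset.card_pos.1 (hcard ▸ Nat.pos_of_ne_zero Subgroup.index_ne_zero_of_finite)
    obtain ⟨hθ1, hθ2⟩ := Finset.mem_filter.1 hθ
    refine ⟨θ, θ.2, fun h => Finset.ne_of_mem_erase hθ1 (Subtype.ext h), fun a ha => ?_, hθ2.symm⟩
    rw [Subgroup.mem_bot] at ha
    rw [show a = 1 from Subtype.ext ha]

include hC in
/-- Combinations of these characters vanishing at `1` are supported inside the kernel. -/
theorem span_supp {α : X → ℂ}
    (hα : α ∈ Cfsg.zspanOn {χ : X → ℂ | Cfsg.IsIrrCharacter X χ ∧ ∃ h ∈ K, χ h ≠ χ 1} {1}ᶜ) :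
    Cfsg.IsGeneralizedCharacter X α ∧ α 1 = 0 ∧ ∀ x, x ∉ K → α x = 0 := by
  obtain ⟨hspan, h1⟩ := mem_on_one.1 hα
  suffices key : Cfsg.IsGeneralizedCharacter X α ∧ ∀ x, x ∉ K → α x = 0 from ⟨key.1, h1, key.2⟩
  clear hα h1
  induction hspan using Submodule.span_induction with
  | mem χ hχ => exact ⟨gen_of_character (isCharacter_of_irr hχ.1), (rel_induced _ hC hχ.1 hχ.2).1⟩
  | zero => exact ⟨gen_zero, fun _ _ => rfl⟩
  | add a b _ _ ha hb => exact ⟨gen_add ha.1 hb.1, fun x hx => by simp [ha.2 x hx, hb.2 x hx]⟩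
  | smul c a _ ha => exact ⟨gen_zsmul ha.1 c, fun x hx => by simp [ha.2 x hx]⟩

end Frobenius

/-- The map to be used only matters on the combinations vanishing off `A`. -/
theorem coherent_congr {L : Type u} [Group L] [Fintype L] {G : Type v} [Group G] [Fintype G]
    {S : Set (L → ℂ)} {A : Set L} {τ τ' : (L → ℂ) → (G → ℂ)} (h : Cfsg.IsCoherent S A τ)
    (he : ∀ α ∈ Cfsg.zspanOn S A, τ α = τ' α) : Cfsg.IsCoherent S A τ' := by
  obtain ⟨h0, τ₁, h1, h2⟩ := h
  exact ⟨h0, τ₁, h1, fun α hα => (h2 α hα).trans (he α hα)⟩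

variable {G : Type u} [Group G] [Fintype G]

/-- With all attached subgroups trivial the Dade map is induction. -/
theorem dade_eq_ind {A : Set G} {L : Subgroup G} [Fintype L] {R : G → Subgroup G}
    (hD : Cfsg.DadeHypothesis A L R) (hR : ∀ a ∈ A, R a = ⊥) {α : L → ℂ} (hα : Cfsg.IsClassFunction L α)
    (hαA : ∀ x : L, (x : G) ∉ A → α x = 0) : Cfsg.dadeIsometry A L R α = Cfsg.indFun L α := by
  classical
  haveI : Fintype (Cfsg.IrrCharacter G) := Fintype.ofFinite _
  haveI : ∀ a : G, Fintype (R a) := fun a => Fintype.ofFinite _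
  rw [classFun_expand (CfsgLib.DadeMap.dade_isClassFunction hD hα),
    classFun_expand (isClassFunction_indFun L α)]
  refine Finset.sum_congr rfl fun χ _ => ?_
  congr 1
  have hχ : Cfsg.IsClassFunction G (χ : G → ℂ) := irr_isClassFunction χ.2
  rw [CfsgLib.DadeMap.inner_dade hD hα hαA hχ, classInner_indFun L α hχ, classInner_eq]
  congr 1
  refine Finset.sum_congr rfl fun a _ => ?_
  by_cases ha : (a : G) ∈ A
  · congr 2
    have h1 : ∀ u : R (a : G), (u : G) = 1 := fun u => Subgroup.mem_bot.1 (hR _ ha ▸ u.2)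
    simp only [CfsgLib.DadeMap.avg, h1, one_mul, Finset.sum_const, Finset.card_univ, nsmul_eq_mul,
      Nat.card_eq_fintype_card]
    rw [inv_mul_cancel_left₀ (Nat.cast_ne_zero.2 Fintype.card_ne_zero)]
  · rw [hαA a ha, zero_mul, zero_mul]

/-- The trivial-intersection `p`-group case, read in a subgroup equal to the normalizer. -/
theorem coherent_ti_pgroup {K L : Subgroup G} [Fintype L] (hN : Subgroup.normalizer (K : Set G) = L)
    (hTI : ∀ g : G, g ∉ Subgroup.normalizer (K : Set G) → ∀ k ∈ K, g * k * g⁻¹ ∈ K → k = 1)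
    (hC : ∀ k ∈ K, k ≠ 1 → Subgroup.centralizer ({k} : Set G) ≤ K)
    (hlt : K < L) (hodd : Odd (Nat.card ↥L)) {p : ℕ} [Fact p.Prime] (hp2 : p ≠ 2) (hp : IsPGroup p K)
    (hna : ¬ IsMulCommutative K) :
    Cfsg.IsCoherent {χ : ↥L → ℂ | Cfsg.IsIrrCharacter ↥L χ ∧ ∃ h ∈ K.subgroupOf L, χ h ≠ χ 1}
      ({1}ᶜ : Set ↥L) (fun α : ↥L → ℂ => Cfsg.indFun L α) := by
  subst hN
  exact CfsgLib.OddCoh.coherent_pgroup_odd K hTI hC hlt hodd hp2 hp hna

theorem coherent_type_one (hG : Cfsg.IsMinSimpleOddOrder G) (L : Subgroup G) [Fintype L] (hL : IsCoatom L)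
    (hI : Cfsg.IsOfTypeI L)
    (hfrob : ∀ x ∈ Cfsg.fittingHallOf L, x ≠ 1 →
      L ⊓ Subgroup.centralizer ({x} : Set G) ≤ Cfsg.fittingHallOf L) :
    (∀ χ ∈ Cfsg.inducedIrrAbove (Cfsg.fittingHall L) ⊥, Cfsg.IsIrrCharacter L χ) ∧
      Cfsg.IsCoherent (Cfsg.inducedIrrAbove (Cfsg.fittingHall L) ⊥) {1}ᶜ
        (Cfsg.dadeIsometry (Cfsg.typeA L) L (Cfsg.supportR L)) := by
  classical
  set H := Cfsg.fittingHall ↥L with hH
  obtain ⟨hsol, hoddL, hH1, hHtop, U, -, hc, -, -⟩ := hI.1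
  have hC : ∀ n ∈ H, n ≠ 1 → Subgroup.centralizer ({n} : Set ↥L) ≤ H := by
    intro n hn hn1 x hx
    obtain ⟨y, hy, e⟩ := hfrob (n : G) (Subgroup.mem_map_of_mem L.subtype hn) (fun h => hn1 (Subtype.ext h))
      ⟨x.2, Subgroup.mem_centralizer_singleton_iff.2
        (congrArg Subtype.val (Subgroup.mem_centralizer_singleton_iff.1 hx))⟩
    rwa [← Subtype.ext (a1 := y) (a2 := x) e]
  rw [inducedIrrAbove_eq H hC]
  refine ⟨fun χ hχ => hχ.1, ?_⟩
  set A := Cfsg.typeA L with hA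
  set τ := Cfsg.dadeIsometry A L (Cfsg.supportR L) with hτdef
  obtain ⟨-, hD⟩ := CfsgLib.SigmaGroups.dade_hypothesis hG hL (Or.inr (Or.inl hA))
  have hAmem : ∀ {a : G}, a ∈ A → a ∈ L ∧ a ≠ 1 ∧ ∃ x ∈ Cfsg.fittingHallOf L, x ≠ 1 ∧ a * x = x * a := by
    intro a ha
    rw [hA, Cfsg.typeA, if_pos hI] at ha
    exact ha
  have hsupp : ∀ {α : ↥L → ℂ},
      α ∈ Cfsg.zspanOn {χ : ↥L → ℂ | Cfsg.IsIrrCharacter ↥L χ ∧ ∃ h ∈ H, χ h ≠ χ 1} {1}ᶜ →
      Cfsg.IsGeneralizedCharacter ↥L α ∧ ∀ x : ↥L, (x : G) ∉ A → α x = 0 := by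
    intro α hα
    obtain ⟨hg, h1, hout⟩ := span_supp H hC hα
    refine ⟨hg, fun x hx => ?_⟩
    by_cases hxH : x ∈ H
    · by_cases hx1 : x = 1
      · rw [hx1, h1]
      · refine absurd ?_ hx
        have hx1' : (x : G) ≠ 1 := fun h => hx1 (Subtype.ext h)
        rw [hA, Cfsg.typeA, if_pos hI]
        exact ⟨x.2, hx1', x, Subgroup.mem_map_of_mem L.subtype hxH, hx1', rfl⟩
    · exact hout x hxH
  have hτ : Cfsg.IsLinearIsometryOn
      (Cfsg.zspanOn {χ : ↥L → ℂ | Cfsg.IsIrrCharacter ↥L χ ∧ ∃ h ∈ H, χ h ≠ χ 1} {1}ᶜ) τ := by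
    refine ⟨fun a _ b _ => ?_, fun a _ n => ?_, fun a ha b hb => ?_, fun a ha => ?_⟩
    · funext g
      simp only [τ, Cfsg.dadeIsometry, Pi.add_apply]
      split_ifs <;> simp
    · funext g
      simp only [τ, Cfsg.dadeIsometry, Pi.smul_apply]
      split_ifs <;> simp
    · exact CfsgLib.DadeMap.isometry hD (gen_isClassFunction (hsupp ha).1) (hsupp ha).2
        (gen_isClassFunction (hsupp hb).1)
    · exact CfsgLib.DadeMap.dade_gen hD (hsupp ha).1 (hsupp ha).2
  have hτ1 : ∀ α ∈ Cfsg.zspanOn {χ : ↥L → ℂ | Cfsg.IsIrrCharacter ↥L χ ∧ ∃ h ∈ H, χ h ≠ χ 1} {1}ᶜ, τ α 1 = 0 :=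
    fun α _ => CfsgLib.DadeMap.dade_eq_zero (CfsgLib.DadeMap.not_inSupp_one hD)
  have hindex : Odd H.index := hoddL.of_dvd_nat (Subgroup.index_dvd_card H)
  have hoddH : Odd (Nat.card H) := hoddL.of_dvd_nat (Subgroup.card_subgroup_dvd_card H)
  have he : Nat.card H ≠ H.index + 1 := fun h => by
    rw [h] at hoddH
    exact Nat.not_even_iff_odd.2 hoddH hindex.add_one
  by_cases hbig : ∀ p : ℕ, p.Prime → IsPGroup p H → ¬ IsMulCommutative H →
      4 * H.index ^ 2 + 1 < Nat.card (Abelianization H)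
  · exact CfsgLib.FeitCoh.coherent H hH1 hHtop hC he hbig τ hτ hτ1
  push Not at hbig
  obtain ⟨p, hp, hpH, hna, hle⟩ := hbig
  haveI := Fact.mk hp
  set K := Cfsg.fittingHallOf L with hK
  let eK : ↥H ≃* ↥K := Subgroup.equivMapOfInjective H L.subtype L.subtype_injective
  have hnaK : ¬ IsMulCommutative K := fun h => hna ⟨⟨fun a b => eK.injective (by
    rw [map_mul, map_mul]; exact h.1.1 _ _)⟩⟩
  have hp2 : p ≠ 2 := by
    intro h2
    obtain ⟨n, hn⟩ := hpH.exists_card_eq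
    rw [h2] at hn
    rcases Nat.eq_zero_or_pos n with hn0 | hn0
    · rw [hn0, pow_zero] at hn
      exact hH1 (Subgroup.eq_bot_of_card_eq H hn)
    · rw [hn] at hoddH
      exact Nat.not_even_iff_odd.2 hoddH (Nat.even_pow.2 ⟨even_two, hn0.ne'⟩)
  rcases hI.2 with hTI | ⟨hab, -, -⟩ | ⟨hexp, -⟩
  · have hKL : K ≤ L := Subgroup.map_subtype_le H
    have hKlt : K < L := lt_of_le_of_ne hKL fun h => hHtop (eq_top_iff.2 fun x _ => by
      obtain ⟨y, hy, e⟩ : (x : G) ∈ K := h.symm ▸ x.2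
      rwa [← Subtype.ext (a1 := y) (a2 := x) e])
    have hLN : L ≤ Subgroup.normalizer (K : Set G) :=
      CfsgLib.BGFifteen.le_normalizer_fittingHallOf L
    have hK1 : K ≠ ⊥ := fun h => hH1 ((Subgroup.map_eq_bot_iff_of_injective H L.subtype_injective).1 h)
    have hN : Subgroup.normalizer (K : Set G) = L := by
      refine le_antisymm ?_ hLN
      by_contra h
      have htop := hL.2 _ (lt_of_le_not_ge hLN h)
      haveI := hG.2.1
      rcases (Subgroup.normalizer_eq_top_iff.1 htop).eq_bot_or_eq_top with h' | h'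
      · exact hK1 h'
      · exact hL.1 (eq_top_iff.2 (h' ▸ hKL))
    have hCL : ∀ k ∈ K, k ≠ 1 → Subgroup.centralizer ({k} : Set G) ≤ L := by
      intro k hk hk1 x hx
      by_contra hxL
      refine hk1 (hTI x (by rw [hN]; exact hxL) k hk ?_)
      rw [Subgroup.mem_centralizer_singleton_iff.1 hx, mul_inv_cancel_right]
      exact hk
    have hCK : ∀ k ∈ K, k ≠ 1 → Subgroup.centralizer ({k} : Set G) ≤ K := fun k hk hk1 x hx =>
      hfrob k hk hk1 ⟨hCL k hk hk1 hx, hx⟩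
    have hco := coherent_ti_pgroup hN hTI hCK hKlt hoddL hp2 (hpH.of_equiv eK) hnaK
    have hKH : K.subgroupOf L = H := Subgroup.comap_map_eq_self_of_injective L.subtype_injective H
    rw [hKH] at hco
    refine coherent_congr hco fun α hα => (dade_eq_ind hD ?_ (gen_isClassFunction (hsupp hα).1) (hsupp hα).2).symm
    intro a ha
    rw [Cfsg.supportR, dif_neg]
    rintro ⟨hno, -⟩
    obtain ⟨haL, ha1, x, hxK, hx1, hax⟩ := hAmem ha
    have haK : a ∈ K := hfrob x hxK hx1 ⟨haL, Subgroup.mem_centralizer_singleton_iff.2 hax⟩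
    exact hno (hCL a haK ha1)
  · exact absurd hab hnaK
  · exfalso
    have hpH' : p ∣ Nat.card K := by
      rw [← Nat.card_congr eK.toEquiv]
      obtain ⟨n, hn⟩ := hpH.exists_card_eq
      rcases Nat.eq_zero_or_pos n with hn0 | hn0
      · rw [hn0, pow_zero] at hn
        exact absurd (Subgroup.eq_bot_of_card_eq H hn) hH1
      · rw [hn]; exact dvd_pow_self p hn0.ne'
    have hd := hexp p hp hpH'
    rw [index_eq_exponent H U hoddL hH1 hc hC] at hd
    obtain ⟨c, hc'⟩ := hd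
    have hsq := sq_le_abelianization hpH hna
    have h3 : 2 * H.index ≤ p - 1 := by
      have hp3 : 3 ≤ p := by have := hp.two_le; omega
      rcases c with _ | _ | c
      · omega
      · exfalso
        have hpo : Odd p := hp.odd_of_ne_two hp2
        rw [Nat.zero_add, mul_one] at hc'
        exact Nat.not_even_iff_odd.2 (hc' ▸ hindex : Odd (p - 1)) (Nat.Odd.sub_odd hpo odd_one)
      · rw [hc', mul_comm 2]
        exact Nat.mul_le_mul_left _ (by omega)
    have hp1 : 1 ≤ p := hp.one_lt.le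
    have h4 : (2 * H.index) ^ 2 ≤ (p - 1) ^ 2 := Nat.pow_le_pow_left h3 2
    have h5 : (p - 1) ^ 2 + 1 < p ^ 2 := by
      obtain ⟨q, rfl⟩ : ∃ q, p = q + 1 := ⟨p - 1, by omega⟩
      simp only [add_tsub_cancel_right]
      have : 2 ≤ q + 1 := hp.two_le
      nlinarith
    have h6 : (2 * H.index) ^ 2 = 4 * H.index ^ 2 := by ring
    omega

end CfsgLib.TypeICoh
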